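import Groth.Agent.FFLib.Quad.Genus
import Groth.Agent.FFLib.Quad.Local
import Groth.Agent.FFLib.Numer
import Groth.Agent.FFLib.Rational
import Groth.Agent.FFLib.Ext

/-!
# Places fixed by the involution of a quadratic extension
-/

noncomputable section

set_option autoImplicit false
set_option maxHeartbeats 1000000
set_option linter.style.haveILetI false
set_option linter.unusedSectionVars false

namespace Groth.Agent.HypFix

open FunFld WithZero Groth.Agent.FFLib

variable {k F K : Type*} [Field k] [Field F] [Algebra k F] [Field K] [Algebra k K] [Algebra F K]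
  [IsScalarTower k F K]

/-- A quadratic extension away from characteristic two is given by a square root. -/
theorem exists_sqrt (hdeg : Module.finrank F K = 2) (h2 : (2 : F) ≠ 0) :
    ∃ (y : K) (u : F), y ∉ Set.range (algebraMap F K) ∧ y ^ 2 = algebraMap F K u := by
  obtain ⟨z, hz⟩ : ∃ z, z ∉ Set.range (algebraMap F K) := by
    by_contra! h
    have : Module.finrank F K ≤ 1 := finrank_le_one (1 : K) fun w => by
      obtain ⟨c, rfl⟩ := h w
      exact ⟨c, by rw [Algebra.smul_def, mul_one]⟩
    omega
  obtain ⟨a, b, hab⟩ := exists_eq_add_mul hdeg hz (z ^ 2)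
  refine ⟨z - algebraMap F K (b / 2), a + (b / 2) ^ 2, fun ⟨c, hc⟩ => hz ⟨c + b / 2, ?_⟩, ?_⟩
  · rw [map_add, hc, sub_add_cancel]
  · have hb : algebraMap F K b = 2 * algebraMap F K (b / 2) := by
      rw [← map_ofNat (algebraMap F K) 2, ← map_mul, mul_div_cancel₀ _ h2]
    simp only [map_add, map_pow]
    linear_combination (-hab) + hb * z

/-- An element of the base of given order. -/
theorem exists_ord_eq (P : Place k F) (n : ℤ) : ∃ b : F, b ≠ 0 ∧ P.ord b = n := by
  obtain ⟨t, ht0, ht⟩ := exists_unif P
  refine ⟨t ^ n, zpow_ne_zero n ht0, ?_⟩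
  rw [ord_zpow, ord_of_val_eq P ht, mul_one]

variable [IsAlgClosed k]

/-- The number of places fixed by the involution. -/
theorem card_fixed (hdeg : Module.finrank F K = 2) (h2 : (2 : k) ≠ 0) (hF : IsFunctionField k F)
    (hK : IsFunctionField k K) (τ : K ≃ₐ[F] K) (hτ : τ ≠ 1) :
    (Nat.card {Q : Place k K // placeComap (τ.restrictScalars k) Q = Q} : ℤ) =
      2 * genus k K + 2 - 4 * genus k F := by
  classical
  haveI : FiniteDimensional F K := Module.finite_of_finrank_eq_succ hdeg
  have h2F : (2 : F) ≠ 0 := by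
    rw [← map_ofNat (algebraMap k F) 2]; exact fun e => h2 ((map_eq_zero _).1 e)
  obtain ⟨y, u, hy, hu⟩ := exists_sqrt hdeg h2F
  have hy0 : y ≠ 0 := fun e => hy ⟨0, by rw [e, map_zero]⟩
  have hu0 : u ≠ 0 := fun e => hy0 (eq_zero_of_pow_eq_zero (by rw [hu, e, map_zero]))
  have hτy : τ y = -y := by
    have h : τ y ^ 2 = y ^ 2 := by rw [← map_pow, hu, τ.commutes]
    rcases sq_eq_sq_iff_eq_or_eq_neg.1 h with h | h
    · refine absurd (AlgEquiv.ext fun w => ?_) hτ
      obtain ⟨a, b, rfl⟩ := exists_eq_add_mul hdeg hy w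
      simp [h]
    · exact h
  -- the divisors
  let B : Divisor k F := (FunFld.div k u).mapRange (fun n => -(n / 2)) (by simp)
  let O : Divisor k F := (FunFld.div k u).mapRange (fun n => n % 2) (by simp)
  have hB : ∀ P : Place k F, B P = -(P.ord u / 2) := fun P => by
    simp only [B, Finsupp.mapRange_apply, div_apply hF.1]
  have hgen := quad_genus hdeg hy (quadLoc_sq hdeg hy hF.1 h2 hu hB) hF hK
  have hsplit : FunFld.div k u = O + (-2 : ℤ) • B := Finsupp.ext fun P => by
    simp only [O, B, Finsupp.add_apply, Finsupp.smul_apply, Finsupp.mapRange_apply, smul_eq_mul]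
    omega
  have hO : O.deg = -(-2 * B.deg) := by
    have h := deg_div hF.1 u
    rw [hsplit, Divisor.deg_add, deg_zsmul] at h
    linarith
  have hOd : O.deg = (O.support.card : ℤ) := by
    show O.sum (fun P n => n * (P.deg : ℤ)) = _
    rw [Finsupp.sum, Finset.cast_card]
    refine Finset.sum_congr rfl fun P hP => ?_
    rw [deg_eq_one hF.1 P, Finsupp.mem_support_iff] at *
    simp only [O, Finsupp.mapRange_apply] at hP ⊢
    push_cast
    omega
  have hOmem : ∀ P, P ∈ O.support ↔ Odd (P.ord u) := fun P => by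
    simp only [O, Finsupp.mem_support_iff, Finsupp.mapRange_apply, div_apply hF.1, Int.odd_iff]
    omega
  -- fixed places
  have hfix : ∀ (Q : Place k K) (P : Place k F) (e : ℕ), IsOverWith Q P e →
      (placeComap (τ.restrictScalars k) Q = Q ↔ Odd (P.ord u)) := by
    intro Q P e he
    constructor
    · intro hQ
      by_contra hodd
      rw [Int.not_odd_iff_even] at hodd
      obtain ⟨m, hm⟩ := hodd
      have he1 := unramified_of_sq hF.1 hdeg h2F hu hy ⟨m, hm⟩ ⟨e, he⟩
      obtain ⟨b, hb0, hb⟩ := exists_ord_eq P (-m)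
      have hb' : algebraMap F K b ≠ 0 := by simpa using hb0
      set z := algebraMap F K b * y with hz
      have hz0 : z ≠ 0 := mul_ne_zero hb' hy0
      have hordy : Q.ord y = m := by
        have := ord_pow Q y 2
        rw [hu, ord_over he1, hm] at this
        push_cast at this
        omega
      have hordz : Q.ord z = 0 := by
        rw [hz, ord_mul Q hb' hy0, hordy, ord_over he1, hb]
        push_cast
        ring
      have hQz : Q.1 z = 1 := by rw [val_eq_exp Q hz0, hordz, neg_zero, exp_zero]
      -- the residue of `z`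
      haveI := residue_finite hK.1 Q
      haveI : Algebra.IsIntegral k (Res Q) := @Algebra.IsIntegral.of_finite k (Res Q) _ _ _ (residue_finite hK.1 Q)
      have hbij := IsAlgClosed.algebraMap_bijective_of_isIntegral (k := k) (K := Res Q)
      obtain ⟨c, hc⟩ := hbij.2 (IsLocalRing.residue Q.O ⟨z, hQz.le⟩)
      have hzc : Q.1 (z - algebraMap k K c) < 1 := by
        have h := (residue_eq_zero Q (⟨z, hQz.le⟩ - algebraMap k Q.O c)).1 (by
          rw [map_sub, ← hc, sub_eq_zero]; rfl)
        rwa [AddSubgroupClass.coe_sub, coe_algebraMap_O] at h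
      have hc0 : c ≠ 0 := fun e0 => by
        rw [e0, map_zero, sub_zero, hQz] at hzc
        exact lt_irrefl _ hzc
      have hzc' : Q.1 (-z - algebraMap k K c) < 1 := by
        have h : (placeComap (τ.restrictScalars k) Q).1 (z - algebraMap k K c) < 1 := by rw [hQ]; exact hzc
        rwa [placeComap_apply, map_sub, AlgEquiv.commutes, hz, map_mul, AlgEquiv.restrictScalars_apply,
          AlgEquiv.restrictScalars_apply, τ.commutes, hτy, mul_neg] at h
      have hsum := lt_of_le_of_lt (Q.1.map_add _ _) (max_lt hzc hzc')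
      rw [show z - algebraMap k K c + (-z - algebraMap k K c) = algebraMap k K (-2 * c) by
        rw [map_mul, map_neg, map_ofNat]; ring, val_algebraMap Q (mul_ne_zero (neg_ne_zero.2 h2) hc0)] at hsum
      exact lt_irrefl _ hsum
    · intro hodd
      obtain ⟨hu', -⟩ := ramified_of_odd hF.1 hdeg (K := K) (P := P) fun Q' e' he' => ⟨Q'.ord y, P.ord u, hodd, by
        have := ord_pow Q' y 2
        rw [hu, ord_over he'] at this
        push_cast at this
        linarith⟩
      exact hu'.unique ⟨e, isOverWith_placeComap τ he⟩ ⟨e, he⟩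
  let below : Place k K → Place k F := fun Q => (exists_over (K := F) hF.1 Q).choose
  have hbelow : ∀ Q, IsOver Q (below Q) := fun Q =>
    ⟨_, (exists_over (K := F) hF.1 Q).choose_spec.choose_spec.2⟩
  let Φ : {Q : Place k K // placeComap (τ.restrictScalars k) Q = Q} → ↥O.support := fun Q =>
    ⟨below Q.1, (hOmem _).2 (((hfix Q.1 _ _ (hbelow Q.1).choose_spec)).1 Q.2)⟩
  have hΦ : Function.Bijective Φ := by
    refine ⟨fun Q Q' h => Subtype.ext ?_, fun P => ?_⟩
    · have h' : below Q.1 = below Q'.1 := congrArg Subtype.val h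
      have hodd := (hOmem _).1 (Φ Q).2
      obtain ⟨hu', -⟩ := ramified_of_odd hF.1 hdeg (K := K) (P := below Q.1) fun Q' e' he' =>
        ⟨Q'.ord y, (below Q.1).ord u, hodd, by
          have := ord_pow Q' y 2
          rw [hu, ord_over he'] at this
          push_cast at this
          linarith⟩
      exact hu'.unique (hbelow Q.1) (h' ▸ hbelow Q'.1)
    · obtain ⟨Q, e, he⟩ := exists_isOver (K' := K) hF.1 P.1
      refine ⟨⟨Q, (hfix Q P.1 e he).2 ((hOmem _).1 P.2)⟩, Subtype.ext ?_⟩
      exact (over_unique hF.1 (hbelow Q).choose_spec he).1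
  rw [Nat.card_eq_of_bijective Φ hΦ, Nat.card_eq_finsetCard, ← hOd, hO]
  linarith

end Groth.Agent.HypFix
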