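import Groth.Agent.HypFix.Field
import Groth.Agent.HypX.Involution
import Groth.Agent.HyperP1.Hyper
import Groth.Agent.HyperP1.DoubleCover
import Groth.Agent.FrobTwist.Main
import Groth.Agent.FFLib.Diff.Nonsing
import Groth.Agent.FFLib.SV.Aut
import Groth.Agent.S10994

/-!
# Hyperelliptic curves and involutions with `2g + 2` fixed points
-/

noncomputable section

set_option autoImplicit false
set_option maxHeartbeats 2000000
set_option linter.style.haveILetI false
set_option linter.unusedSectionVars false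
set_option backward.isDefEq.respectTransparency false
set_option backward.isDefEq.respectTransparency.types false

universe u v

open CategoryTheory CategoryTheory.Limits AlgebraicGeometry TopologicalSpace
open FunFld
open scoped IntermediateField

namespace Groth.Agent.HypFix

open Groth.Agent

section Fields

variable {k : Type u} {K : Type v} [Field k] [IsAlgClosed k] [Field K] [Algebra k K]

theorem isFF_of_transcendental_mem (hK : IsFunctionField k K) {F : IntermediateField k K} {t : K} (htF : t ∈ F)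
    (ht : Transcendental k t) : IsFunctionField k F := by
  let t' : F := ⟨t, htF⟩
  have ht' : Transcendental k t' := fun h => ht (h.algHom F.val)
  haveI : FiniteDimensional k⟮algebraMap F K t'⟯ K := FFLib.IsFF.finite_adjoin hK.1 ht
  refine ⟨⟨t', ht', ?_⟩, fun a ha => ?_⟩
  · haveI : Module.Finite k⟮t'⟯ K := Module.Finite.of_equiv_equiv
      (FFLib.adjoinMapEquiv (K' := K) t').symm.toRingEquiv (RingEquiv.refl K) (RingHom.ext fun z =>
        (FFLib.adjoinMapEquiv_coe t' ((FFLib.adjoinMapEquiv (K' := K) t').symm z)).symm.trans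
          (congrArg Subtype.val ((FFLib.adjoinMapEquiv (K' := K) t').apply_symm_apply z)))
    exact FiniteDimensional.left k⟮t'⟯ F K
  · obtain ⟨c, hc⟩ := hK.2 (a : K) (ha.algHom F.val)
    exact ⟨c, Subtype.ext hc⟩

theorem adjoin_simple_facts (hK : IsFunctionField k K) {x : K} (hx : Transcendental k x) :
    IsFunctionField k k⟮x⟯ ∧ genus k k⟮x⟯ = 0 := by
  have hF : IsFunctionField k k⟮x⟯ := isFF_of_transcendental_mem hK (IntermediateField.mem_adjoin_simple_self k x) hx
  refine ⟨hF, ((S10994.result k _ hF).2 ⟨IntermediateField.AdjoinSimple.gen k x, ?_⟩).1⟩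
  apply IntermediateField.map_injective (k⟮x⟯).val
  rw [IntermediateField.adjoin_map, Set.image_singleton, ← AlgHom.fieldRange_eq_map,
    IntermediateField.fieldRange_val]
  rfl

theorem card_fixed_of_degree_two (hK : IsFunctionField k K) (h2 : (2 : k) ≠ 0) {x : K}
    (hd : Module.finrank k⟮x⟯ K = 2) (τ : K ≃ₐ[k⟮x⟯] K) (hτ : τ ≠ 1) :
    (Nat.card {Q : Place k K // FFLib.placeComap (τ.restrictScalars k) Q = Q} : ℤ) = 2 * genus k K + 2 := by
  obtain ⟨hF, hg⟩ := adjoin_simple_facts hK (HyperP1.transcendental_of_finrank hK (x := x) (by omega))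
  rw [card_fixed hd h2 hF hK τ hτ, hg]
  simp

theorem exists_involution (h2 : (2 : k) ≠ 0) {x : K} (hd : Module.finrank k⟮x⟯ K = 2) :
    ∃ τ : K ≃ₐ[k⟮x⟯] K, τ ≠ 1 ∧ ∀ a, τ (τ a) = a := by
  have h2F : (2 : k⟮x⟯) ≠ 0 := by
    rw [← map_ofNat (algebraMap k k⟮x⟯) 2]; exact fun e => h2 ((map_eq_zero _).1 e)
  obtain ⟨y, u, hy, hu⟩ := exists_sqrt hd h2F
  obtain ⟨τ, hτ⟩ := FFLib.exists_conj_aut hd hy (r := 0) (u := u) (by rw [hu, map_zero, zero_mul, zero_add])
  rw [map_zero, zero_sub] at hτ
  refine ⟨τ, fun h => hy ⟨0, ?_⟩, fun a => ?_⟩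
  · have h2K : (2 : K) ≠ 0 := by
      rw [← map_ofNat (algebraMap k K) 2]; exact fun e => h2 ((map_eq_zero _).1 e)
    rw [h, AlgEquiv.one_apply] at hτ
    have : (2 : K) * y = 0 := by linear_combination hτ
    rw [map_zero, (mul_eq_zero.1 this).resolve_left h2K]
  · obtain ⟨p, q, rfl⟩ := FFLib.exists_eq_add_mul hd hy a
    simp only [map_add, map_mul, τ.commutes, hτ, map_neg, neg_neg]

/-- An involution with `2g + 2` fixed places fixes a rational subfield of index two. -/
theorem exists_degree_two (hK : IsFunctionField k K) (h2 : (2 : k) ≠ 0) (s : K ≃ₐ[k] K)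
    (hss : ∀ a, s (s a) = a) (hs : s ≠ 1)
    (hcard : Nat.card {Q : Place k K // FFLib.placeComap s Q = Q} = 2 * genus k K + 2) :
    ∃ x : K, Module.finrank k⟮x⟯ K = 2 := by
  have h2K : (2 : K) ≠ 0 := by
    rw [← map_ofNat (algebraMap k K) 2]; exact fun e => h2 ((map_eq_zero _).1 e)
  let F : IntermediateField k K :=
    { RingHom.eqLocusField (s.toAlgHom.toRingHom) (RingHom.id K) with
      algebraMap_mem' := fun c => s.commutes c }
  have hmem : ∀ a, a ∈ F ↔ s a = a := fun a => Iff.rfl
  obtain ⟨z, hz⟩ : ∃ z, s z ≠ z := by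
    by_contra! h
    exact hs (AlgEquiv.ext h)
  have hy0 : z - s z ≠ 0 := sub_ne_zero.2 (Ne.symm hz)
  have hsy : s (z - s z) = -(z - s z) := by rw [map_sub, hss, neg_sub]
  set y := z - s z
  have hyF : y ∉ F := fun h => by
    rw [hmem, hsy] at h
    exact mul_ne_zero h2K hy0 (by linear_combination -h)
  have hspan : ∀ w : K, ∃ a b : F, (a : K) + (b : K) * y = w := fun w => by
    refine ⟨⟨(w + s w) / 2, ?_⟩, ⟨(w - s w) / (2 * y), ?_⟩, ?_⟩
    · rw [hmem, map_div₀, map_add, hss, map_ofNat, add_comm]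
    · rw [hmem, map_div₀, map_sub, hss, map_mul, map_ofNat, hsy, mul_neg, div_neg, ← neg_div, neg_sub]
    · show (w + s w) / 2 + (w - s w) / (2 * y) * y = w
      field_simp
      ring
  have hdeg : Module.finrank F K = 2 := by
    have hli : LinearIndependent F ![(1 : K), y] := by
      rw [LinearIndependent.pair_iff' one_ne_zero]
      intro a ha
      refine hyF ?_
      rw [← ha]
      show (a : K) * 1 ∈ F
      rw [mul_one]
      exact a.2
    have hsp : ⊤ ≤ Submodule.span F (Set.range ![(1 : K), y]) := fun w _ => by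
      obtain ⟨a, b, hab⟩ := hspan w
      rw [Submodule.mem_span_range_iff_exists_fun]
      refine ⟨![a, b], ?_⟩
      rw [Fin.sum_univ_two, ← hab]
      show (a : K) * 1 + (b : K) * y = _
      rw [mul_one]
    rw [Module.finrank_eq_card_basis (Module.Basis.mk hli hsp), Fintype.card_fin]
  obtain ⟨t, ht, -⟩ := hK.1
  obtain ⟨t', ht'F, ht'⟩ : ∃ t', t' ∈ F ∧ Transcendental k t' := by
    by_contra! hno
    have h1 := hno (t + s t) (by rw [hmem, map_add, hss, add_comm])
    have h2 := hno (t * s t) (by rw [hmem, map_mul, hss, mul_comm])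
    simp only [Transcendental, not_not] at h1 h2
    obtain ⟨a, ha⟩ := hK.2 _ h1
    obtain ⟨b, hb⟩ := hK.2 _ h2
    refine ht (IsIntegral.isAlgebraic ⟨Polynomial.X ^ 2 - Polynomial.C a * Polynomial.X + Polynomial.C b, ?_, ?_⟩)
    · monicity!
    · simp only [Polynomial.eval₂_add, Polynomial.eval₂_sub, Polynomial.eval₂_mul, Polynomial.eval₂_C,
        Polynomial.eval₂_X, Polynomial.eval₂_X_pow, ha, hb]
      ring
  have hF := isFF_of_transcendental_mem hK ht'F ht'
  let τ : K ≃ₐ[F] K := AlgEquiv.ofRingEquiv (f := s.toRingEquiv) fun a => a.2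
  have hτs : τ.restrictScalars k = s := AlgEquiv.ext fun a => rfl
  have hc := card_fixed hdeg h2 hF hK τ (fun h => hs (hτs ▸ by rw [h]; rfl))
  rw [hτs, hcard] at hc
  push_cast at hc
  obtain ⟨x, hx⟩ := (S10994.result k F hF).1 ⟨by omega,
    (FFLib.exists_place hF.1).elim fun P => ⟨P, FFLib.deg_eq_one hF.1 P⟩⟩
  refine ⟨(x : K), ?_⟩
  have h : k⟮(x : K)⟯ = F := by
    have := congrArg (IntermediateField.map F.val) hx
    rwa [IntermediateField.adjoin_map, Set.image_singleton, ← AlgHom.fieldRange_eq_map,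
      IntermediateField.fieldRange_val] at this
  rw [h]
  exact hdeg

end Fields

attribute [local instance] ZetaCurve.ffAlg H23.PnChart.isIntegral_projSpace

variable {k : Type u} [Field k] [IsAlgClosed k] {X : Scheme.{u}} [X.Over (Spec (CommRingCat.of k))]
  [IsProper (X ↘ Spec (CommRingCat.of k))] [Smooth (X ↘ Spec (CommRingCat.of k))] [IsIntegral X]

theorem apply_generic (σ : X ⟶ X) (hσσ : σ ≫ σ = 𝟙 X) : σ (genericPoint X) = genericPoint X := by
  have hs : Function.Surjective σ := fun x => ⟨σ x, by rw [← Scheme.Hom.comp_apply, hσσ]; rfl⟩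
  have hgp := (genericPoint_spec X).image σ.continuous
  rw [Set.image_univ, hs.range_eq, closure_univ] at hgp
  exact hgp.eq (genericPoint_spec X)

/-- The action of an involution on the function field. -/
theorem exists_aut (σ : X ⟶ X) (hσ : σ ≫ (X ↘ Spec (CommRingCat.of k)) = X ↘ Spec (CommRingCat.of k))
    (hσσ : σ ≫ σ = 𝟙 X) :
    ∃ s : X.functionField ≃ₐ[k] X.functionField, (∀ a, s (s a) = a) ∧
      (∀ a, s a = (X.presheaf.stalkSpecializes (specializes_of_eq (apply_generic σ hσσ)) ≫
        σ.stalkMap (genericPoint X)) a) ∧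
      X.fromSpecStalk (genericPoint X) ≫ σ =
        Spec.map (CommRingCat.ofHom s.toAlgHom.toRingHom) ≫ X.fromSpecStalk (genericPoint X) := by
  let a := X.presheaf.stalkSpecializes (specializes_of_eq (apply_generic σ hσσ)) ≫ σ.stalkMap (genericPoint X)
  have hgen : X.fromSpecStalk (genericPoint X) ≫ σ = Spec.map a ≫ X.fromSpecStalk (genericPoint X) := by
    simp only [a, Spec.map_comp, Category.assoc, Scheme.SpecMap_stalkSpecializes_fromSpecStalk,
      Scheme.SpecMap_stalkMap_fromSpecStalk]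
  have haa : a ≫ a = 𝟙 _ := by
    apply Spec.map_injective
    rw [← cancel_mono (X.fromSpecStalk (genericPoint X)), Spec.map_comp, Spec.map_id, Category.assoc, ← hgen,
      ← Category.assoc, ← hgen, Category.assoc, hσσ, Category.comp_id, Category.id_comp]
  let A : X.functionField →ₐ[k] X.functionField :=
    { a.hom with commutes' := fun c => congr($(FrobTwist.algebraMap_comp k σ hσ (apply_generic σ hσσ)) c) }
  refine ⟨AlgEquiv.ofAlgHom A A (AlgHom.ext fun x => congr($haa x)) (AlgHom.ext fun x => congr($haa x)),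
    fun x => congr($haa x), fun x => rfl, hgen⟩

variable (hdim : topologicalKrullDim X = 1)

include hdim

/-- Fixed closed points are fixed places. -/
theorem card_fixed_points (σ : X ⟶ X) (hσσ : σ ≫ σ = 𝟙 X) (s : X.functionField ≃ₐ[k] X.functionField)
    (hs : ∀ a, s a = (X.presheaf.stalkSpecializes (specializes_of_eq (apply_generic σ hσσ)) ≫
        σ.stalkMap (genericPoint X)) a) :
    Nat.card {x : X // IsClosed ({x} : Set X) ∧ σ x = x} =
      Nat.card {Q : Place k X.functionField // FFLib.placeComap s Q = Q} := by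
  haveI : IsIso σ := ⟨σ, hσσ, hσσ⟩
  have hcl : ∀ z : ZetaCurve.Pt X, IsClosed ({σ z.1} : Set X) := fun z => by
    have h := (Scheme.homeoOfIso (asIso σ)).isClosedMap _ z.2
    rwa [Set.image_singleton] at h
  have key : ∀ z : ZetaCurve.Pt X,
      ZetaCurve.pl k X hdim ⟨σ z.1, hcl z⟩ = FFLib.placeComap s (ZetaCurve.pl k X hdim z) := fun z => by
    refine FFLib.place_eq_of_le fun c hc => ?_
    rw [FFLib.placeComap_apply]
    obtain ⟨a, rfl⟩ := (ZetaCurve.inR_iff k X hdim ⟨σ z.1, hcl z⟩ c).2 hc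
    refine (ZetaCurve.inR_iff k X hdim z _).1 ⟨σ.stalkMap z.1 a, ?_⟩
    rw [hs]
    obtain ⟨U, hU, t, rfl⟩ := X.presheaf.germ_exist a
    have hη : genericPoint X ∈ U := CurveCohLib.Polar.eta_mem hU
    refine Eq.symm (Eq.trans (congrArg _ (TopCat.Presheaf.germ_stalkSpecializes_apply (F := X.presheaf) (U := U)
      (hy := hU) ((genericPoint_spec X).specializes (Set.mem_univ _)) t)) ?_)
    simp only [CommRingCat.comp_apply, TopCat.Presheaf.germ_stalkSpecializes_apply, Scheme.Hom.germ_stalkMap_apply]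
    exact (TopCat.Presheaf.germ_stalkSpecializes_apply (F := X.presheaf) (U := σ ⁻¹ᵁ U)
      (hy := (show z.1 ∈ σ ⁻¹ᵁ U from hU)) ((genericPoint_spec X).specializes (Set.mem_univ _)) _).symm
  refine Nat.card_congr ((Equiv.subtypeSubtypeEquivSubtypeInter _ _).symm.trans
    (Equiv.subtypeEquiv (ZetaCurve.pl k X hdim) fun z => ?_))
  rw [← key]
  refine ⟨fun h => congrArg _ (Subtype.ext h), fun h => congrArg Subtype.val ((ZetaCurve.pl k X hdim).injective h)⟩

/-- A hyperelliptic curve has an involution with `2g + 2` fixed points. -/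
theorem exists_involution_of_function (h2 : (2 : k) ≠ 0) {x : X.functionField}
    (hd : Module.finrank k⟮x⟯ X.functionField = 2)
    (h0 : Module.finrank k (Coh.HH X (Coh.structureModule X) 0) = 1) :
    ∃ σ : X ⟶ X, σ ≫ (X ↘ Spec (CommRingCat.of k)) = X ↘ Spec (CommRingCat.of k) ∧ σ ≫ σ = 𝟙 X ∧
      Nat.card {z : X // IsClosed ({z} : Set X) ∧ σ z = z} = 2 * Curv2.genus k X + 2 := by
  haveI : X.IsSeparated :=
    ⟨by rw [← Limits.terminal.comp_from (X ↘ Spec (CommRingCat.of k))]; infer_instance⟩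
  have hK := ZetaCurve.isFunctionField k X hdim h0
  obtain ⟨τ, hτ, hττ⟩ := exists_involution h2 hd
  obtain ⟨σ, hσ, hgen⟩ := HypX.exists_hom_of_ff k hdim (τ.restrictScalars k).toAlgHom
  have hσσ : σ ≫ σ = 𝟙 X := by
    refine HypX.hom_ext_generic ?_
    rw [reassoc_of% hgen, hgen, ← Spec.map_comp_assoc, Category.comp_id]
    refine Eq.trans (congrArg (fun q => Spec.map q ≫ _) (CommRingCat.hom_ext (RingHom.ext fun a => hττ a) :
      CommRingCat.ofHom (τ.restrictScalars k).toAlgHom.toRingHom ≫
        CommRingCat.ofHom (τ.restrictScalars k).toAlgHom.toRingHom = 𝟙 X.functionField)) ?_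
    erw [Spec.map_id, Category.id_comp]
  refine ⟨σ, hσ, hσσ, ?_⟩
  obtain ⟨s, -, hs, hgen'⟩ := exists_aut σ hσ hσσ
  have hsτ : s = τ.restrictScalars k := by
    have h := hgen'.symm.trans hgen
    rw [cancel_mono] at h
    exact AlgEquiv.ext fun a => congr($(Spec.map_injective h) a)
  have hc := card_fixed_of_degree_two hK h2 hd τ hτ
  rw [card_fixed_points hdim σ hσσ s hs, hsτ, ← ZetaCurve.genus_eq k X hdim h0]
  exact_mod_cast hc

/-- An involution with `2g + 2` fixed points makes the curve a double cover of the line. -/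
theorem exists_function_of_involution (h2 : (2 : k) ≠ 0)
    (h0 : Module.finrank k (Coh.HH X (Coh.structureModule X) 0) = 1) (σ : X ⟶ X)
    (hσ : σ ≫ (X ↘ Spec (CommRingCat.of k)) = X ↘ Spec (CommRingCat.of k)) (hσσ : σ ≫ σ = 𝟙 X)
    (hcard : Nat.card {z : X // IsClosed ({z} : Set X) ∧ σ z = z} = 2 * Curv2.genus k X + 2) :
    ∃ x : X.functionField, Module.finrank k⟮x⟯ X.functionField = 2 := by
  have hK := ZetaCurve.isFunctionField k X hdim h0
  obtain ⟨s, hss, hs, hgen⟩ := exists_aut σ hσ hσσ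
  rw [card_fixed_points hdim σ hσσ s hs, ← ZetaCurve.genus_eq k X hdim h0] at hcard
  refine exists_degree_two hK h2 s hss (fun h1 => ?_) hcard
  haveI := FFLib.infinite_places hK
  haveI : Infinite {Q : Place k X.functionField // FFLib.placeComap s Q = Q} :=
    Infinite.of_injective (fun Q => ⟨Q, FFLib.placeComap_eq_of_fixed fun a ha => by rw [h1]; exact ha⟩)
      fun _ _ h => congrArg Subtype.val h
  rw [Nat.card_eq_zero_of_infinite] at hcard
  omega

end Groth.Agent.HypFix
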